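import Groth.Agent.Lib.TorsorDesc.Basic

/-!
# Points of pseudo-torsors
-/

universe u

open CategoryTheory CategoryTheory.Limits MonoidalCategory CartesianMonoidalCategory MonObj AlgebraicGeometry

namespace GrothLib.TorsorDesc

variable {S : Scheme.{u}} {G P : Over S} [GrpObj G] {a : AlgGrp.Action G P}

theorem exists_act_eq (h : NonAbH1.IsPseudoTorsorSch a) {T : Over S} (p₁ p₂ : T ⟶ P) :
    ∃ g : T ⟶ G, lift g p₂ ≫ a.act = p₁ := by
  haveI : IsIso (lift a.act (snd G P)) := h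
  have e := congrArg (lift p₁ p₂ ≫ ·) (IsIso.inv_hom_id (lift a.act (snd G P)))
  simp only [Category.comp_id] at e
  rw [← Category.assoc, comp_lift] at e
  have e₁ := congrArg (· ≫ fst P P) e
  have e₂ := congrArg (· ≫ snd P P) e
  simp only [lift_fst, lift_snd] at e₁ e₂
  refine ⟨(lift p₁ p₂ ≫ inv (lift a.act (snd G P))) ≫ fst G P, ?_⟩
  generalize lift p₁ p₂ ≫ inv (lift a.act (snd G P)) = q at e₁ e₂ ⊢
  rw [← e₂, ← comp_lift, lift_fst_snd, Category.comp_id, e₁]

theorem act_left_injective (h : NonAbH1.IsPseudoTorsorSch a) {T : Over S} {g₁ g₂ : T ⟶ G} {p : T ⟶ P}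
    (e : lift g₁ p ≫ a.act = lift g₂ p ≫ a.act) : g₁ = g₂ := by
  haveI : IsIso (lift a.act (snd G P)) := h
  have e' : lift g₁ p = lift g₂ p := by
    rw [← cancel_mono (lift a.act (snd G P)), comp_lift, comp_lift, e, lift_snd, lift_snd]
  simpa using congrArg (· ≫ fst G P) e'

/-- A criterion for pseudo-torsors through points. -/
theorem isPseudoTorsorSch_of_points
    (hex : ∀ (T : Over S) (p₁ p₂ : T ⟶ P), ∃ g : T ⟶ G, lift g p₂ ≫ a.act = p₁)
    (huniq : ∀ (T : Over S) (g₁ g₂ : T ⟶ G) (p : T ⟶ P),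
      lift g₁ p ≫ a.act = lift g₂ p ≫ a.act → g₁ = g₂) :
    NonAbH1.IsPseudoTorsorSch a := by
  obtain ⟨g, hg⟩ := hex (P ⊗ P) (fst P P) (snd P P)
  refine ⟨⟨lift g (snd P P), ?_, ?_⟩⟩
  · apply CartesianMonoidalCategory.hom_ext
    · rw [Category.assoc, lift_fst, Category.id_comp]
      apply huniq _ _ _ (snd G P)
      have h := congrArg (lift a.act (snd G P) ≫ ·) hg
      simp only [comp_lift_assoc, lift_fst, lift_snd] at h
      rw [h, lift_fst_snd, Category.id_comp]
    · simp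
  · apply CartesianMonoidalCategory.hom_ext
    · simp [hg]
    · simp

end GrothLib.TorsorDesc
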