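import Groth.Prelude.Def_ChGrp
import Mathlib.AlgebraicGeometry.Sites.Fpqc

/-!
# Descent along morphisms with local sections; cancellation for pseudo-torsors
-/

universe u

open CategoryTheory CategoryTheory.Limits MonoidalCategory CartesianMonoidalCategory MonObj AlgebraicGeometry

namespace GrothLib.TorsorDesc

/-- A morphism acquiring sections on an fpqc covering is an effective epimorphism. -/
theorem effectiveEpi_of_localSections {A B : Scheme.{u}} (j : A ⟶ B)
    (h : NonAbH1.IsLocallyTrivialFor Scheme.fpqcPrecoverage (Over.mk j)) : EffectiveEpi j := by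
  obtain ⟨R, hR, hsec⟩ := h
  rw [← Sieve.effectiveEpimorphic_singleton, Presieve.EffectiveEpimorphic.iff_forall_isSheafFor_yoneda]
  intro Z
  refine (GrothendieckTopology.Subcanonical.isSheaf_of_isRepresentable (J := Scheme.fpqcTopology) _).isSheafFor _ ?_
  refine Scheme.fpqcTopology.superset_covering ?_ (Precoverage.generate_mem_toGrothendieck hR)
  rintro T g ⟨W, a, f, hf, rfl⟩
  obtain ⟨s, hs⟩ := hsec f hf
  exact ⟨A, a ≫ s, j, Presieve.singleton.mk, by rw [Category.assoc]; exact congrArg (a ≫ ·) hs⟩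

theorem isLocallyTrivialFor_mono {B : Scheme.{u}} {X : Over B} {K K' : Precoverage Scheme.{u}} (hle : K ≤ K')
    (h : NonAbH1.IsLocallyTrivialFor K X) : NonAbH1.IsLocallyTrivialFor K' X := by
  obtain ⟨R, hR, hsec⟩ := h
  exact ⟨R, hle B hR, hsec⟩

/-- Local triviality is stable under base change. -/
theorem isLocallyTrivialFor_of_isPullback {P A B B' : Scheme.{u}} {p : P ⟶ A} {q : P ⟶ B'} {j : A ⟶ B}
    {g : B' ⟶ B} (K : Precoverage Scheme.{u}) [K.IsStableUnderBaseChange] (hp : IsPullback p q j g)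
    (h : NonAbH1.IsLocallyTrivialFor K (Over.mk j)) : NonAbH1.IsLocallyTrivialFor K (Over.mk q) := by
  obtain ⟨R, hR, hsec⟩ := h
  refine ⟨R.pullbackArrows g, Precoverage.pullbackArrows_mem g hR, ?_⟩
  rintro T t ⟨Z, u, hu⟩
  obtain ⟨s, hs⟩ := hsec u hu
  exact ⟨hp.lift (pullback.fst u g ≫ s) (pullback.snd u g)
    (by rw [Category.assoc, show s ≫ j = u from hs, pullback.condition]), hp.lift_snd _ _ _⟩

section Over

variable {S : Scheme.{u}}

/-- Morphisms in `Over S` descend along a morphism with local sections. -/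
theorem existsUnique_desc {A B : Over S} (j : A ⟶ B) [EffectiveEpi j.left] {Z : Over S} (ψ : A ⟶ Z)
    (hψ : ∀ (T : Over S) (a b : T ⟶ A), a ≫ j = b ≫ j → a ≫ ψ = b ≫ ψ) :
    ∃! χ : B ⟶ Z, j ≫ χ = ψ := by
  have hc : ∀ {T : Scheme.{u}} (g₁ g₂ : T ⟶ A.left), g₁ ≫ j.left = g₂ ≫ j.left →
      g₁ ≫ ψ.left = g₂ ≫ ψ.left := by
    intro T g₁ g₂ h
    have h2 : g₂ ≫ A.hom = g₁ ≫ A.hom := by
      rw [← Over.w j, ← Category.assoc, ← Category.assoc, h]
    exact congrArg CommaMorphism.left (hψ (Over.mk (g₁ ≫ A.hom)) (Over.homMk g₁ rfl) (Over.homMk g₂ h2)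
      (Over.OverMorphism.ext h))
  let χ : B.left ⟶ Z.left := EffectiveEpi.desc j.left ψ.left fun g₁ g₂ h => hc g₁ g₂ h
  have hfac : j.left ≫ χ = ψ.left := EffectiveEpi.fac j.left ψ.left _
  refine ⟨Over.homMk χ ?_, Over.OverMorphism.ext hfac, ?_⟩
  · rw [← cancel_epi j.left, ← Category.assoc, hfac, Over.w ψ, Over.w j]
  · intro χ' h
    apply Over.OverMorphism.ext
    change χ'.left = χ
    rw [← cancel_epi j.left, hfac, ← h]
    rfl

theorem cancel_of_effectiveEpi {A B Z : Over S} (j : A ⟶ B) [EffectiveEpi j.left] {x y : B ⟶ Z}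
    (h : j ≫ x = j ≫ y) : x = y := by
  apply Over.OverMorphism.ext
  rw [← cancel_epi j.left]
  exact congrArg CommaMorphism.left h

/-- Morphisms out of the total space of an `R ⇉ A → B` cartesian pair descend when they equalise `R`. -/
theorem existsUnique_desc_of_isPullback {R A B : Over S} {a₁ a₂ : R ⟶ A} {j : A ⟶ B} [EffectiveEpi j.left]
    (hp : IsPullback a₁ a₂ j j) {Z : Over S} (ψ : A ⟶ Z) (hψ : a₁ ≫ ψ = a₂ ≫ ψ) :
    ∃! χ : B ⟶ Z, j ≫ χ = ψ := by
  refine existsUnique_desc j ψ fun T a b h => ?_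
  rw [← hp.lift_fst a b h, Category.assoc, hψ, ← Category.assoc, hp.lift_snd]

theorem effectiveEpi_whiskerLeft {A B : Over S} (C : Over S) (j : A ⟶ B)
    (h : NonAbH1.IsLocallyTrivialFor Scheme.fpqcPrecoverage (Over.mk j.left)) :
    EffectiveEpi (C ◁ j).left := by
  have hp : IsPullback (snd C A) (C ◁ j) j (snd C B) := by
    refine IsPullback.mk ⟨(whiskerLeft_snd C j).symm⟩ ⟨PullbackCone.IsLimit.mk _ (fun s =>
      lift (s.snd ≫ fst C B) s.fst) (fun s => lift_snd _ _) (fun s => ?_) fun s m h₁ h₂ => ?_⟩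
    · apply CartesianMonoidalCategory.hom_ext
      · rw [Category.assoc, whiskerLeft_fst, lift_fst]
      · rw [Category.assoc, whiskerLeft_snd, lift_snd_assoc, s.condition]
    · apply CartesianMonoidalCategory.hom_ext
      · rw [lift_fst, ← h₂, Category.assoc, whiskerLeft_fst]
      · rw [lift_snd, h₁]
  exact effectiveEpi_of_localSections _
    (isLocallyTrivialFor_of_isPullback _ (hp.map (Over.forget S)) h)

end Over

end GrothLib.TorsorDesc
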